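import Mathlib
import Cfsg.Agent.ClosedTwo.Elem
import Cfsg.Agent.ClosedTwo.Alt

-- merged: Cfsg.Agent.FooteOdd.Ops
section

/-!
# Operators on `ι → K` (helper63, S1252, rows PSL and PSU in odd characteristic)

* `dg d` diagonal operators, `pm σ` permutation operators, `J a c` block-diagonal operators on
  `(α × Fin 2) ⊕ β → K`, `bp π` permutation of the blocks; determinants and commutation rules.
-/

set_option autoImplicit false

namespace Cfsg.Agent.FooteOdd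

open Equiv

variable {K : Type*} [Field K]

section ops

variable {ι : Type*}

/-- diagonal operators -/
def dg : (ι → Kˣ) →* ((ι → K) ≃ₗ[K] (ι → K)) where
  toFun d := LinearEquiv.piCongrRight fun i => LinearEquiv.smulOfUnit (d i)
  map_one' := by
    ext v i
    simp [LinearEquiv.piCongrRight, LinearEquiv.smulOfUnit]
  map_mul' d e := by
    ext v i
    simp [LinearEquiv.piCongrRight, LinearEquiv.smulOfUnit, mul_assoc, Units.smul_def]

@[simp] theorem dg_apply (d : ι → Kˣ) (v : ι → K) (i : ι) : dg d v i = (d i : K) * v i := by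
  simp [dg, LinearEquiv.piCongrRight, LinearEquiv.smulOfUnit, Units.smul_def]

/-- permutation operators -/
def pm : Perm ι →* ((ι → K) ≃ₗ[K] (ι → K)) where
  toFun σ := LinearEquiv.funCongrLeft K K σ⁻¹
  map_one' := by
    ext v i
    simp [LinearEquiv.funCongrLeft_apply, LinearMap.funLeft_apply]
  map_mul' σ τ := by
    ext v i
    simp [LinearEquiv.funCongrLeft_apply, LinearMap.funLeft_apply]

@[simp] theorem pm_apply (σ : Perm ι) (v : ι → K) (i : ι) : pm σ v i = v (σ⁻¹ i) := by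
  simp [pm, LinearEquiv.funCongrLeft_apply, LinearMap.funLeft_apply]

theorem pm_dg (σ : Perm ι) (d : ι → Kˣ) : pm (K := K) σ * dg d * (pm σ)⁻¹ = dg (d ∘ ⇑σ⁻¹) := by
  rw [mul_inv_eq_iff_eq_mul]
  ext v i
  simp [LinearEquiv.mul_apply]

theorem dg_injective : Function.Injective (dg : (ι → Kˣ) →* ((ι → K) ≃ₗ[K] (ι → K))) := by
  intro d e h
  funext i
  have := congrFun (LinearEquiv.congr_fun h (fun _ => 1)) i
  exact Units.ext (by simpa using this)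

variable [Fintype ι] [DecidableEq ι]

theorem det_dg (d : ι → Kˣ) : LinearEquiv.det (dg d) = ∏ i, d i := by
  ext
  rw [LinearEquiv.coe_det]
  have h : ((dg d : (ι → K) ≃ₗ[K] (ι → K)) : (ι → K) →ₗ[K] (ι → K)) = Matrix.toLin' (Matrix.diagonal fun i => (d i : K)) := by
    ext v i
    simp [Matrix.mulVec_diagonal]
  rw [h, LinearMap.det_toLin', Matrix.det_diagonal, Units.coe_prod]

theorem det_pm (σ : Perm ι) : LinearEquiv.det (pm (K := K) σ) = Units.map (Int.castRingHom K).toMonoidHom (Perm.sign σ) := by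
  ext
  rw [LinearEquiv.coe_det]
  have h : ((pm σ : (ι → K) ≃ₗ[K] (ι → K)) : (ι → K) →ₗ[K] (ι → K)) = Matrix.toLin' ((σ⁻¹ : Perm ι).toPEquiv.toMatrix) := by
    ext v i
    simp [Pi.single_apply]
  rw [h, LinearMap.det_toLin', Matrix.det_permutation]
  simp

/-- scalars -/
def sc (c : Kˣ) : (ι → K) ≃ₗ[K] (ι → K) := dg fun _ => c

omit [Fintype ι] [DecidableEq ι] in
@[simp] theorem sc_apply (c : Kˣ) (v : ι → K) : sc c v = (c : K) • v := by
  funext i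
  simp [sc]

omit [Fintype ι] [DecidableEq ι] in
theorem sc_comm (c : Kˣ) (g : (ι → K) ≃ₗ[K] (ι → K)) : sc c * g = g * sc c := by
  ext v i
  simp [LinearEquiv.mul_apply]

omit [Fintype ι] [DecidableEq ι] in
theorem sc_mul (c d : Kˣ) : sc (ι := ι) (c * d) = sc c * sc d := by
  rw [sc, sc, sc, ← map_mul]
  rfl

/-- `-1` at the coordinates `i` and `j` -/
def tt (i j : ι) : (ι → K) ≃ₗ[K] (ι → K) := dg (Pi.mulSingle i (-1) * Pi.mulSingle j (-1))

end ops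

section blocks

variable {α β : Type*}

/-- index type -/
abbrev Ix (α β : Type*) := (α × Fin 2) ⊕ β

/-- block-diagonal operators -/
def J : ((α → (Fin 2 → K) ≃ₗ[K] (Fin 2 → K)) × (β → Kˣ)) →* ((Ix α β → K) ≃ₗ[K] (Ix α β → K)) where
  toFun p :=
    { toFun := fun v => Sum.elim (fun x => p.1 x.1 (fun s => v (Sum.inl (x.1, s))) x.2) (fun j => (p.2 j : K) * v (Sum.inr j))
      invFun := fun v => Sum.elim (fun x => (p.1 x.1).symm (fun s => v (Sum.inl (x.1, s))) x.2)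
        (fun j => ((p.2 j)⁻¹ : Kˣ) * v (Sum.inr j))
      map_add' := by
        intro v w
        ext (x | j)
        · have : (fun s => (v + w) (Sum.inl (x.1, s))) = (fun s => v (Sum.inl (x.1, s))) + fun s => w (Sum.inl (x.1, s)) := rfl
          simp only [Sum.elim_inl, Pi.add_apply]
          have h := congrFun ((p.1 x.1).map_add (fun s => v (Sum.inl (x.1, s))) (fun s => w (Sum.inl (x.1, s)))) x.2
          exact h
        · simp [mul_add]
      map_smul' := by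
        intro c v
        ext (x | j)
        · have h := congrFun ((p.1 x.1).map_smul c (fun s => v (Sum.inl (x.1, s)))) x.2
          exact h
        · simp [mul_left_comm]
      left_inv := by
        intro v
        ext (x | j)
        · simp
        · simp
      right_inv := by
        intro v
        ext (x | j)
        · simp
        · simp }
  map_one' := by
    ext v (x | j)
    · simp
    · simp
  map_mul' p q := by
    ext v (x | j)
    · simp [LinearEquiv.mul_apply]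
    · simp [mul_assoc]

@[simp] theorem J_inl (p : (α → (Fin 2 → K) ≃ₗ[K] (Fin 2 → K)) × (β → Kˣ)) (v : Ix α β → K) (i : α) (s : Fin 2) :
    J p v (Sum.inl (i, s)) = p.1 i (fun s => v (Sum.inl (i, s))) s := rfl

@[simp] theorem J_inr (p : (α → (Fin 2 → K) ≃ₗ[K] (Fin 2 → K)) × (β → Kˣ)) (v : Ix α β → K) (j : β) :
    J p v (Sum.inr j) = (p.2 j : K) * v (Sum.inr j) := rfl

/-- the permutation of the index type given by a permutation of the blocks -/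
def bpσ : Perm α →* Perm (Ix α β) where
  toFun π := Perm.sumCongr (Equiv.prodCongrLeft fun _ => π) 1
  map_one' := by
    ext (⟨i, s⟩ | j) <;> simp
  map_mul' π ρ := by
    ext (⟨i, s⟩ | j) <;> simp

@[simp] theorem bpσ_inl (π : Perm α) (i : α) (s : Fin 2) : bpσ (β := β) π (Sum.inl (i, s)) = Sum.inl (π i, s) := rfl

@[simp] theorem bpσ_inr (π : Perm α) (j : β) : bpσ (β := β) π (Sum.inr j) = Sum.inr j := rfl

/-- permutation of the blocks -/
def bp : Perm α →* ((Ix α β → K) ≃ₗ[K] (Ix α β → K)) := pm.comp bpσ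

@[simp] theorem bp_inl (π : Perm α) (v : Ix α β → K) (i : α) (s : Fin 2) :
    bp π v (Sum.inl (i, s)) = v (Sum.inl (π⁻¹ i, s)) := by
  simp only [bp, MonoidHom.comp_apply, pm_apply, ← map_inv, bpσ_inl]

@[simp] theorem bp_inr (π : Perm α) (v : Ix α β → K) (j : β) :
    bp π v (Sum.inr j) = v (Sum.inr j) := by
  simp only [bp, MonoidHom.comp_apply, pm_apply, ← map_inv, bpσ_inr]

theorem bp_J (π : Perm α) (p : (α → (Fin 2 → K) ≃ₗ[K] (Fin 2 → K)) × (β → Kˣ)) :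
    bp π * J p * (bp π)⁻¹ = J (p.1 ∘ ⇑π⁻¹, p.2) := by
  rw [mul_inv_eq_iff_eq_mul]
  ext v (⟨i, s⟩ | j)
  · simp [LinearEquiv.mul_apply]
  · simp [LinearEquiv.mul_apply]

variable [Fintype α] [DecidableEq α] [Fintype β] [DecidableEq β]

theorem det_bp (π : Perm α) : LinearEquiv.det (bp (K := K) (β := β) π) = 1 := by
  rw [bp, MonoidHom.comp_apply, det_pm]
  have : Perm.sign (bpσ (β := β) π) = 1 := by
    change Perm.sign (Perm.sumCongr (Equiv.prodCongrLeft fun _ => π) 1) = 1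
    rw [Perm.sign_sumCongr, Perm.sign_prodCongrLeft, Perm.sign_one, mul_one, Fin.prod_univ_two]
    exact Int.units_mul_self _
  rw [this, map_one]

theorem det_J (p : (α → (Fin 2 → K) ≃ₗ[K] (Fin 2 → K)) × (β → Kˣ)) :
    LinearEquiv.det (J p) = (∏ i, LinearEquiv.det (p.1 i)) * ∏ j, p.2 j := by
  ext
  rw [LinearEquiv.coe_det]
  let e : (Ix α β → K) ≃ₗ[K] (α → Fin 2 → K) × (β → K) :=
    (LinearEquiv.sumArrowLequivProdArrow (α × Fin 2) β K K).trans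
      ((LinearEquiv.curry K K α (Fin 2)).prodCongr (LinearEquiv.refl K _))
  have h1 : (e.toLinearMap ∘ₗ ((J p : (Ix α β → K) ≃ₗ[K] (Ix α β → K)) : (Ix α β → K) →ₗ[K] (Ix α β → K)) ∘ₗ e.symm.toLinearMap) =
      LinearMap.prodMap (LinearMap.pi fun i => ((p.1 i : (Fin 2 → K) →ₗ[K] (Fin 2 → K))) ∘ₗ LinearMap.proj i)
        (LinearMap.pi fun j => ((LinearMap.lsmul K K (p.2 j : K))) ∘ₗ LinearMap.proj j) := by
    refine LinearMap.ext fun x => ?_
    refine Prod.ext ?_ ?_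
    · funext i s
      rfl
    · funext j
      rfl
  rw [← LinearMap.det_conj _ e, h1, LinearMap.det_prodMap, LinearMap.det_pi, LinearMap.det_pi, Units.val_mul, Units.coe_prod,
    Units.coe_prod]
  refine congrArg₂ (· * ·) (Finset.prod_congr rfl fun j _ => (LinearEquiv.coe_det _).symm)
    (Finset.prod_congr rfl fun j _ => ?_)
  rw [LinearMap.det_ring]
  simp

end blocks

end Cfsg.Agent.FooteOdd

end

-- merged: Cfsg.Agent.FooteOdd.Base
section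

/-!
# Strongly closed 2-subgroups of linear groups (helper63, S1252)

`Sys K α β` : the data of a group `L` of linear maps of `(α × Fin 2) ⊕ β → K` (general linear or unitary), such that a Sylow
2-subgroup of `L` is made of block matrices.  `Sys.closed` : for a quotient `G` of `L ∩ SL` by scalars, the strongly closed
subgroups of a Sylow 2-subgroup of `G` are trivial or the whole.
-/

set_option autoImplicit false
set_option linter.unusedVariables false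
set_option linter.unusedSectionVars false

namespace Cfsg.Agent.FooteOdd

open Equiv Subgroup Cfsg
open Cfsg.Agent.ClosedTwo.Elem

/-- The data. -/
structure Sys (K : Type*) [Field K] (α β : Type*) [Fintype α] [DecidableEq α] [Fintype β] [DecidableEq β] where
  L : Subgroup ((Ix α β → K) ≃ₗ[K] (Ix α β → K))
  L2 : Subgroup ((Fin 2 → K) ≃ₗ[K] (Fin 2 → K))
  D : Subgroup Kˣ
  neg : (-1 : Kˣ) ∈ D
  diag : ∀ d : Ix α β → Kˣ, (∀ i, d i ∈ D) → dg d ∈ L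
  perm : ∀ σ : Perm (Ix α β), pm σ ∈ L
  blk : ∀ p : (α → (Fin 2 → K) ≃ₗ[K] (Fin 2 → K)) × (β → Kˣ), (∀ i, p.1 i ∈ L2) → (∀ j, p.2 j ∈ D) → J p ∈ L
  diag2 : ∀ d : Fin 2 → Kˣ, (∀ i, d i ∈ D) → dg d ∈ L2
  det_mem : ∀ g ∈ L, LinearEquiv.det g ∈ D
  det2_mem : ∀ g ∈ L2, LinearEquiv.det g ∈ D
  h1 : ∀ t ∈ L, t * t = 1 → ∃ k ∈ L, ∃ ε : Ix α β → Kˣ, (∀ i, ε i = 1 ∨ ε i = -1) ∧ k * t * k⁻¹ = dg ε
  h2 : ∀ z ∈ L, LinearEquiv.det z = 1 → (∃ c : Kˣ, z * z = sc c) → (¬ ∃ c : Kˣ, z = sc c) →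
    ∃ w ∈ L, LinearEquiv.det w = 1 ∧ ∃ k ∈ L, ∃ i j, i ≠ j ∧
      w * z * w⁻¹ = z * (k * tt i j * k⁻¹) ∧ z * (k * tt i j * k⁻¹) = (k * tt i j * k⁻¹) * z
  h3 : ∀ x ∈ L2, LinearEquiv.det x = 1 → (∃ k : ℕ, x ^ 2 ^ k = 1) →
    ∃ ρ ∈ L2, ρ * ρ = 1 ∧ LinearEquiv.det ρ = -1 ∧ ρ * x * ρ⁻¹ = x⁻¹
  h4 : (Nat.card L).factorization 2 = Fintype.card α * (Nat.card L2).factorization 2 +
    (Nat.card (Perm α)).factorization 2 + Fintype.card β * (Nat.card D).factorization 2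

variable {K : Type*} [Field K] {α β : Type*} [Fintype α] [DecidableEq α] [Fintype β] [DecidableEq β]

section general

variable {ι : Type*}

theorem tt_sq (i j : ι) [DecidableEq ι] : (tt i j : (ι → K) ≃ₗ[K] (ι → K)) * tt i j = 1 := by
  rw [tt, ← map_mul, mul_mul_mul_comm, ← Pi.mulSingle_mul, ← Pi.mulSingle_mul]
  simp

theorem exists_perm_two [DecidableEq ι] {i j i' j' : ι} (h : i ≠ j) (h' : i' ≠ j') : ∃ σ : Perm ι, σ i = i' ∧ σ j = j' := by
  refine ⟨swap (swap i i' j) j' * swap i i', ?_, ?_⟩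
  · rw [Perm.mul_apply, swap_apply_left, swap_apply_of_ne_of_ne]
    · intro h1
      exact h ((swap i i').injective (by rw [swap_apply_left]; exact h1))
    · exact h'
  · rw [Perm.mul_apply, swap_apply_left]

theorem mulSingle_comp_inv [DecidableEq ι] {M : Type*} [One M] (σ : Perm ι) (i : ι) (c : M) :
    (Pi.mulSingle i c : ι → M) ∘ ⇑σ⁻¹ = Pi.mulSingle (σ i) c := by
  funext x
  rw [Function.comp_apply, Pi.mulSingle_apply, Pi.mulSingle_apply]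
  congr 1
  rw [eq_iff_iff]
  constructor
  · intro h
    rw [← h]; simp
  · intro h
    rw [h]; simp

/-- generation of the diagonal operators of determinant one -/
theorem dg_mem_of [Fintype ι] [DecidableEq ι] [Nonempty ι] (T : Subgroup ((ι → K) ≃ₗ[K] (ι → K))) (C : Subgroup Kˣ)
    (h : ∀ i j, i ≠ j → ∀ c ∈ C, dg (Pi.mulSingle i c * Pi.mulSingle j c⁻¹) ∈ T)
    (δ : ι → Kˣ) (hδ : ∀ i, δ i ∈ C) (h1 : ∏ i, δ i = 1) : dg δ ∈ T := by
  obtain ⟨i0⟩ := ‹Nonempty ι›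
  have key : δ = ∏ i, (Pi.mulSingle i (δ i) * Pi.mulSingle i0 (δ i)⁻¹) := by
    have e1 : ∏ i, (Pi.mulSingle i0 (δ i)⁻¹ : ι → Kˣ) = Pi.mulSingle i0 (∏ i, (δ i)⁻¹) :=
      (map_prod (MonoidHom.mulSingle (fun _ : ι => Kˣ) i0) (fun i => (δ i)⁻¹) Finset.univ).symm
    rw [Finset.prod_mul_distrib, Finset.univ_prod_mulSingle δ, e1, Finset.prod_inv_distrib, h1]
    simp
  change δ ∈ T.comap dg
  rw [key]
  refine Subgroup.prod_mem _ fun i _ => ?_
  change dg _ ∈ T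
  by_cases hi : i = i0
  · subst hi
    rw [← Pi.mulSingle_mul, mul_inv_cancel]
    simp [T.one_mem]
  · exact h i i0 hi _ (hδ i)

end general

namespace Sys

variable (s : Sys K α β)

/-- the part of determinant one -/
noncomputable def Γ : Subgroup ((Ix α β → K) ≃ₗ[K] (Ix α β → K)) := s.L ⊓ (LinearEquiv.det : _ →* Kˣ).ker

theorem mem_Γ {g : (Ix α β → K) ≃ₗ[K] (Ix α β → K)} : g ∈ s.Γ ↔ g ∈ s.L ∧ LinearEquiv.det g = 1 := by
  rw [Γ, mem_inf, MonoidHom.mem_ker]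

theorem conj_mem {k g : (Ix α β → K) ≃ₗ[K] (Ix α β → K)} (hk : k ∈ s.L) (hg : g ∈ s.Γ) : k * g * k⁻¹ ∈ s.Γ := by
  rw [mem_Γ] at hg ⊢
  refine ⟨s.L.mul_mem (s.L.mul_mem hk hg.1) (s.L.inv_mem hk), ?_⟩
  rw [map_mul, map_mul, map_inv, hg.2]
  simp

variable {G : Type*} [Group G]

/-- the twisted homomorphism -/
noncomputable def tw (ψ : ↥s.Γ →* G) (k : ↥s.L) : ↥s.Γ →* G where
  toFun g := ψ ⟨k * g * k⁻¹, s.conj_mem k.2 g.2⟩
  map_one' := by
    rw [← map_one ψ]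
    congr 1
    ext1
    simp
  map_mul' g h := by
    rw [← map_mul ψ]
    congr 1
    ext1
    simp

theorem tw_apply (ψ : ↥s.Γ →* G) (k : ↥s.L) (g : ↥s.Γ) : s.tw ψ k g = ψ ⟨k * g * k⁻¹, s.conj_mem k.2 g.2⟩ := rfl

theorem tw_one (ψ : ↥s.Γ →* G) (g : ↥s.Γ) : s.tw ψ 1 g = ψ g := by
  rw [tw_apply]
  exact congrArg ψ (Subtype.ext (by simp))

/-- all the `L`-conjugates of `g` map into the conjugates of elements of `A` -/
def CC (ψ : ↥s.Γ →* G) (A : Subgroup G) (g : (Ix α β → K) ≃ₗ[K] (Ix α β → K)) : Prop :=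
  ∃ hg : g ∈ s.Γ, ∀ k : ↥s.L, Cl A (s.tw ψ k ⟨g, hg⟩)

variable {s} {ψ : ↥s.Γ →* G} {A : Subgroup G}

theorem CC.one : s.CC ψ A 1 := by
  refine ⟨s.Γ.one_mem, fun k => ?_⟩
  have : (⟨1, s.Γ.one_mem⟩ : ↥s.Γ) = 1 := rfl
  rw [this, map_one]
  exact cl_one

theorem CC.inv {g : (Ix α β → K) ≃ₗ[K] (Ix α β → K)} (h : s.CC ψ A g) : s.CC ψ A g⁻¹ := by
  obtain ⟨hg, h⟩ := h
  refine ⟨s.Γ.inv_mem hg, fun k => ?_⟩
  have : (⟨g⁻¹, s.Γ.inv_mem hg⟩ : ↥s.Γ) = (⟨g, hg⟩ : ↥s.Γ)⁻¹ := rfl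
  rw [this, map_inv]
  exact (h k).inv

theorem CC.conj {g k : (Ix α β → K) ≃ₗ[K] (Ix α β → K)} (h : s.CC ψ A g) (hk : k ∈ s.L) : s.CC ψ A (k * g * k⁻¹) := by
  obtain ⟨hg, h⟩ := h
  refine ⟨s.conj_mem hk hg, fun u => ?_⟩
  have := h (u * ⟨k, hk⟩)
  rw [tw_apply] at this ⊢
  convert this using 2
  ext1
  simp [mul_assoc]

theorem CC.of_conj {g k : (Ix α β → K) ≃ₗ[K] (Ix α β → K)} (hk : k ∈ s.L) (h : s.CC ψ A (k * g * k⁻¹)) : s.CC ψ A g := by
  have := h.conj (s.L.inv_mem hk)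
  simpa [mul_assoc] using this

variable [Finite G] {S : Sylow 2 G}

theorem CC.mul (hA : IsStronglyClosed A (S : Subgroup G)) {P : Subgroup ((Ix α β → K) ≃ₗ[K] (Ix α β → K))} (hP : P ≤ s.Γ)
    (hP2 : IsPGroup 2 ↥P) {g h : (Ix α β → K) ≃ₗ[K] (Ix α β → K)} (hgP : g ∈ P) (hhP : h ∈ P) (hg : s.CC ψ A g)
    (hh : s.CC ψ A h) : s.CC ψ A (g * h) := by
  have hp : Fact (Nat.Prime 2) := ⟨Nat.prime_two⟩
  obtain ⟨hg1, hg⟩ := hg
  obtain ⟨hh1, hh⟩ := hh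
  refine ⟨s.Γ.mul_mem hg1 hh1, fun k => ?_⟩
  have e : (⟨g * h, s.Γ.mul_mem hg1 hh1⟩ : ↥s.Γ) = (⟨g, hg1⟩ : ↥s.Γ) * ⟨h, hh1⟩ := rfl
  rw [e, map_mul]
  have hP' : IsPGroup 2 ↥(P.subgroupOf s.Γ) := hP2.comap_of_injective s.Γ.subtype s.Γ.subtype_injective
  exact Cl.mul hA (hP'.map (s.tw ψ k)) ⟨_, hgP, rfl⟩ ⟨_, hhP, rfl⟩ (hg k) (hh k)

theorem CC.of_inverted (hA : IsStronglyClosed A (S : Subgroup G)) {t x : (Ix α β → K) ≃ₗ[K] (Ix α β → K)} (ht : t * t = 1)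
    (hx : t * x * t⁻¹ = x⁻¹) {n : ℕ} (hn : x ^ 2 ^ n = 1) (h1 : s.CC ψ A t) (h2 : s.CC ψ A (t * x)) : s.CC ψ A x := by
  obtain ⟨ht1, h1⟩ := h1
  obtain ⟨htx, h2⟩ := h2
  have hxm : x ∈ s.Γ := by
    have := s.Γ.mul_mem (s.Γ.inv_mem ht1) htx
    simpa using this
  refine ⟨hxm, fun k => ?_⟩
  refine Cl.of_inverted hA (t := s.tw ψ k ⟨t, ht1⟩) (k := n) ?_ ?_ ?_ (h1 k) ?_
  · rw [← map_mul]
    have : (⟨t, ht1⟩ : ↥s.Γ) * ⟨t, ht1⟩ = 1 := Subtype.ext ht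
    rw [this, map_one]
  · rw [← map_inv, ← map_inv, ← map_mul, ← map_mul]
    congr 1
    exact Subtype.ext hx
  · rw [← map_pow]
    have : (⟨x, hxm⟩ : ↥s.Γ) ^ 2 ^ n = 1 := Subtype.ext hn
    rw [this, map_one]
  · rw [← map_mul]
    exact h2 k

variable (s ψ) in
/-- the elements `g` of a 2-group with `CC g` -/
def ccSub (hA : IsStronglyClosed A (S : Subgroup G)) (P : Subgroup ((Ix α β → K) ≃ₗ[K] (Ix α β → K))) (hP : P ≤ s.Γ)
    (hP2 : IsPGroup 2 ↥P) : Subgroup ((Ix α β → K) ≃ₗ[K] (Ix α β → K)) where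
  carrier := {g | g ∈ P ∧ s.CC ψ A g}
  mul_mem' {a b} ha hb := ⟨P.mul_mem ha.1 hb.1, CC.mul hA hP hP2 ha.1 hb.1 ha.2 hb.2⟩
  one_mem' := ⟨P.one_mem, CC.one⟩
  inv_mem' {a} ha := ⟨P.inv_mem ha.1, ha.2.inv⟩

theorem mem_ccSub {hA : IsStronglyClosed A (S : Subgroup G)} {P : Subgroup ((Ix α β → K) ≃ₗ[K] (Ix α β → K))} {hP : P ≤ s.Γ}
    {hP2 : IsPGroup 2 ↥P} {g : (Ix α β → K) ≃ₗ[K] (Ix α β → K)} : g ∈ s.ccSub ψ hA P hP hP2 ↔ g ∈ P ∧ s.CC ψ A g := Iff.rfl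

/-- one conjugate of a diagonal operator is enough -/
theorem CC.of_cl {ε : Ix α β → Kˣ} (i0 : Ix α β) {k0 : (Ix α β → K) ≃ₗ[K] (Ix α β → K)} (hk0 : k0 ∈ s.L) (hε : dg ε ∈ s.Γ)
    (h : Cl A (ψ ⟨k0 * dg ε * k0⁻¹, s.conj_mem hk0 hε⟩)) : s.CC ψ A (dg ε) := by
  refine ⟨hε, fun k => ?_⟩
  obtain ⟨k, hk⟩ := k
  rw [tw_apply]
  set c : Kˣ := (LinearEquiv.det k)⁻¹ * LinearEquiv.det k0 with hc
  have hcD : c ∈ s.D := s.D.mul_mem (s.D.inv_mem (s.det_mem k hk)) (s.det_mem k0 hk0)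
  set d : (Ix α β → K) ≃ₗ[K] (Ix α β → K) := dg (Pi.mulSingle i0 c) with hd
  have hdL : d ∈ s.L := s.diag _ fun i => by
    by_cases hi : i = i0
    · subst hi
      rw [Pi.mulSingle_eq_same]
      exact hcD
    · simpa [Pi.mulSingle_eq_of_ne hi] using s.D.one_mem
  have hdet : LinearEquiv.det d = c := by
    rw [hd, det_dg]
    simp [Finset.prod_pi_mulSingle']
  have hcomm : d * dg ε = dg ε * d := by
    rw [hd, ← map_mul, ← map_mul, mul_comm]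
  set γ : (Ix α β → K) ≃ₗ[K] (Ix α β → K) := k * d * k0⁻¹ with hγ
  have hγΓ : γ ∈ s.Γ := by
    rw [mem_Γ]
    refine ⟨s.L.mul_mem (s.L.mul_mem hk hdL) (s.L.inv_mem hk0), ?_⟩
    rw [hγ, map_mul, map_mul, map_inv, hdet, hc, mul_inv_cancel_left, mul_inv_cancel]
  have := h.conj (ψ ⟨γ, hγΓ⟩)
  rw [← map_inv, ← map_mul, ← map_mul] at this
  convert this using 2
  ext1
  change k * dg ε * k⁻¹ = γ * (k0 * dg ε * k0⁻¹) * γ⁻¹
  have e1 : γ * (k0 * dg ε * k0⁻¹) * γ⁻¹ = k * (d * dg ε * d⁻¹) * k⁻¹ := by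
    rw [hγ]; group
  rw [e1, hcomm, mul_inv_cancel_right]

theorem tt_mem (s : Sys K α β) {i j : Ix α β} : (tt i j : (Ix α β → K) ≃ₗ[K] (Ix α β → K)) ∈ s.Γ := by
  rw [mem_Γ]
  constructor
  · refine s.diag _ fun k => ?_
    refine s.D.mul_mem ?_ ?_
    · rw [Pi.mulSingle_apply]; split_ifs
      · exact s.neg
      · exact s.D.one_mem
    · rw [Pi.mulSingle_apply]; split_ifs
      · exact s.neg
      · exact s.D.one_mem
  · rw [tt, map_mul, map_mul, det_dg, det_dg]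
    simp [Finset.prod_pi_mulSingle']

theorem CC.tt_of {i j i' j' : Ix α β} (h : i ≠ j) (h' : i' ≠ j') (hc : s.CC ψ A (tt i j)) : s.CC ψ A (tt i' j') := by
  obtain ⟨σ, rfl, rfl⟩ := exists_perm_two h h'
  have := hc.conj (s.perm σ)
  rw [tt, pm_dg] at this
  have e : (Pi.mulSingle i (-1) * Pi.mulSingle j (-1) : Ix α β → Kˣ) ∘ ⇑σ⁻¹ = Pi.mulSingle (σ i) (-1) * Pi.mulSingle (σ j) (-1) := by
    rw [← mulSingle_comp_inv, ← mulSingle_comp_inv]
    rfl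
  rw [e] at this
  exact this

/-- **Step 1**: the operators `tt i j`. -/
theorem cc_tt (hψ : Function.Surjective ψ) (hker : ∀ g : ↥s.Γ, ψ g = 1 ↔ ∃ c : Kˣ, (g : (Ix α β → K) ≃ₗ[K] (Ix α β → K)) = sc c)
    (hA : IsStronglyClosed A (S : Subgroup G)) (hne : A ≠ ⊥) {i j : Ix α β} (hij : i ≠ j) : s.CC ψ A (tt i j) := by
  obtain ⟨z, hzA, hz2, hz1⟩ := exists_involution hA hne
  obtain ⟨⟨g, hg⟩, rfl⟩ := hψ z
  have hsq : ∃ c : Kˣ, g * g = sc c := by
    have := (hker (⟨g, hg⟩ * ⟨g, hg⟩)).1 (by rw [map_mul]; exact hz2)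
    exact this
  have hns : ¬ ∃ c : Kˣ, g = sc c := fun h => hz1 ((hker ⟨g, hg⟩).2 h)
  obtain ⟨w, hwL, hwd, k, hk, i', j', hij', h1, h2⟩ := s.h2 g (s.mem_Γ.1 hg).1 (s.mem_Γ.1 hg).2 hsq hns
  have hw : w ∈ s.Γ := s.mem_Γ.2 ⟨hwL, hwd⟩
  have hτ : k * tt i' j' * k⁻¹ ∈ s.Γ := s.conj_mem hk s.tt_mem
  have hcl : Cl A (ψ ⟨k * tt i' j' * k⁻¹, hτ⟩) := by
    have hclg : Cl A (ψ ⟨g, hg⟩) := cl_of_mem hzA
    have hclw := hclg.conj (ψ ⟨w, hw⟩)
    rw [← map_inv, ← map_mul, ← map_mul] at hclw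
    have e1 : (⟨w, hw⟩ * ⟨g, hg⟩ * (⟨w, hw⟩ : ↥s.Γ)⁻¹ : ↥s.Γ) = ⟨g, hg⟩ * ⟨k * tt i' j' * k⁻¹, hτ⟩ := Subtype.ext h1
    rw [e1, map_mul] at hclw
    set a := ψ ⟨g, hg⟩ with ha
    set b := ψ ⟨k * tt i' j' * k⁻¹, hτ⟩ with hb
    have hbb : b * b = 1 := by
      rw [hb, ← map_mul]
      have : (⟨k * tt i' j' * k⁻¹, hτ⟩ : ↥s.Γ) * ⟨k * tt i' j' * k⁻¹, hτ⟩ = 1 := by
        apply Subtype.ext
        change (k * tt i' j' * k⁻¹) * (k * tt i' j' * k⁻¹) = 1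
        have : (k * tt i' j' * k⁻¹) * (k * tt i' j' * k⁻¹) = k * (tt i' j' * tt i' j') * k⁻¹ := by group
        rw [this, tt_sq, mul_one, mul_inv_cancel]
      rw [this, map_one]
    have hab : a * b = b * a := by
      rw [ha, hb, ← map_mul, ← map_mul]
      congr 1
      exact Subtype.ext h2
    have hmul : a * (a * b) = b := by rw [← mul_assoc, hz2, one_mul]
    have := Cl.mul_invol hA (k := 1) hz2 (show (a * b) * (a * b) = 1 by
      rw [mul_assoc, ← mul_assoc b, ← hab, mul_assoc a b b, hbb, mul_one, hz2]) (by rw [hmul, pow_one, pow_two, hbb]) hclg hclw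
    rwa [hmul] at this
  have := CC.of_cl (s := s) (ψ := ψ) i' hk s.tt_mem hcl
  exact CC.tt_of hij' hij this

end Sys

end Cfsg.Agent.FooteOdd

end
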