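import Cfsg.Agent.Foote.Bridge
import Cfsg.Agent.SporadicStructure.M11InvMain
import Cfsg.Agent.MTwelveType.SylowModel
import Cfsg.Agent.S0384
import Cfsg.Agent.S0387
import Cfsg.Agent.S0388
import Cfsg.Agent.SporadicA.M11Comp

/-!
# Strongly closed 2-subgroups of the Mathieu group of degree 11 (helper63)

One class of involutions; the Sylow subgroup (order 16) has a subgroup of order 8 generated by involutions.
-/

set_option autoImplicit false
set_option linter.style.haveILetI false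

open scoped Pointwise

namespace Cfsg.Agent.FooteOdd.SporMEleven

open Subgroup Cfsg Cfsg.Agent.TwoFusion.ClosedFam Cfsg.Agent.Foote
open Cfsg.Agent.SporadicStructure.M11InvPerms Cfsg.Agent.SporadicStructure.M11InvMain
open Cfsg.Agent.MTwelveType.SylowModel (mem_M12 squareDodecad_eq)

theorem mem_M11 {g : Equiv.Perm GolayPt} (h : g ∈ M24) (hd : ∀ p ∈ dd, g p ∈ dd)
    (h0 : g (some 0) = some 0) : g ∈ Spor.M11 :=
  Subgroup.mem_inf.2 ⟨mem_M12 h hd, h0⟩

theorem mem_iff {g : Equiv.Perm GolayPt} : g ∈ Spor.M11 ↔ g ∈ HH dd (some 0) := by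
  rw [mem_HH]
  constructor
  · rintro ⟨⟨h1, h2⟩, h3⟩
    have h2' : g • Spor.squareDodecad = Spor.squareDodecad := h2
    rw [squareDodecad_eq] at h2'
    exact ⟨h1, h2', h3⟩
  · rintro ⟨h1, h2, h3⟩
    refine ⟨⟨h1, ?_⟩, h3⟩
    show g • Spor.squareDodecad = Spor.squareDodecad
    rw [squareDodecad_eq]
    exact h2

/-- the transvection -/
def eT : Spor.M11 := ⟨pT, mem_M11 pT_mem pT_dd pT_zero⟩
/-- the swap -/
def eW : Spor.M11 := ⟨pW, mem_M11 pW_mem pW_dd pW_zero⟩
/-- the central involution -/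
def eX : Spor.M11 := ⟨pX, mem_M11 pX_mem pX_dd pX_zero⟩
/-- another involution -/
def eB : Spor.M11 := eT * (eW * (eT * (eT * (eW * (eT * eW)))))

/-- the eight elements -/
def d8 : Fin 8 → Spor.M11 := ![1, eW, eB, eW * eB, eB * eW, eW * (eB * eW), eB * (eW * eB), eW * (eB * (eW * eB))]

/-- the multiplication table -/
def tab : Fin 8 → Fin 8 → Fin 8 :=
  ![![0, 1, 2, 3, 4, 5, 6, 7], ![1, 0, 3, 2, 5, 4, 7, 6], ![2, 4, 0, 6, 1, 7, 3, 5], ![3, 5, 1, 7, 0, 6, 2, 4],
    ![4, 2, 6, 0, 7, 1, 5, 3], ![5, 3, 7, 1, 6, 0, 4, 2], ![6, 7, 4, 5, 2, 3, 0, 1], ![7, 6, 5, 4, 3, 2, 1, 0]]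

theorem ext11 {x y : Spor.M11} (h : ∀ p : GolayPt, x.1 p = y.1 p) : x = y :=
  Subtype.ext (Equiv.ext h)

set_option maxRecDepth 100000 in
theorem tab_aux : ∀ i j : Fin 8, ∀ p : GolayPt, (d8 i * d8 j).1 p = (d8 (tab i j)).1 p := by decide +kernel

theorem tab_mul (i j : Fin 8) : d8 i * d8 j = d8 (tab i j) := ext11 (tab_aux i j)

set_option maxRecDepth 100000 in
theorem d8_inj_aux : ∀ i j : Fin 8, (d8 i).1 (some 2) = (d8 j).1 (some 2) →
    (d8 i).1 (some 3) = (d8 j).1 (some 3) → i = j := by decide +kernel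

theorem d8_inj : Function.Injective d8 := fun i j h => d8_inj_aux i j (by rw [h]) (by rw [h])

theorem W_sq : eW * eW = 1 := tab_mul 1 1
theorem B_sq : eB * eB = 1 := tab_mul 2 2
theorem W_ne : eW ≠ 1 := fun h => absurd (d8_inj (a₁ := 1) (a₂ := 0) h) (by decide)
theorem B_ne : eB ≠ 1 := fun h => absurd (d8_inj (a₁ := 2) (a₂ := 0) h) (by decide)

/-- the dihedral subgroup -/
def Q : Subgroup Spor.M11 where
  carrier := Set.range d8
  one_mem' := ⟨0, rfl⟩
  mul_mem' := by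
    rintro _ _ ⟨i, rfl⟩ ⟨j, rfl⟩
    exact ⟨tab i j, (tab_mul i j).symm⟩
  inv_mem' := by
    rintro _ ⟨i, rfl⟩
    have h : ∀ i : Fin 8, ∃ j : Fin 8, tab i j = 0 := by decide
    obtain ⟨j, hj⟩ := h i
    refine ⟨j, ?_⟩
    have h1 := tab_mul i j
    rw [hj] at h1
    exact eq_inv_of_mul_eq_one_right h1

theorem card_Q : Nat.card Q = 8 := by
  have e : Fin 8 ≃ Q := (Equiv.ofInjective d8 d8_inj)
  rw [← Nat.card_congr e, Nat.card_eq_fintype_card, Fintype.card_fin]

theorem sharp : Sharp := fun d hd x y hx hy => S0384.result d hd x y hx hy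

/-- one class of involutions -/
theorem conj_X (x : Spor.M11) (h1 : x ≠ 1) (h2 : x * x = 1) : ∃ h : Spor.M11, h * eX * h⁻¹ = x := by
  obtain ⟨h, hh, hc⟩ := (data sharp).exists_conj (mem_iff.1 x.2) (fun h => h1 (Subtype.ext h)) (fun u =>
    congrArg (fun z : Spor.M11 => z.1 u) h2)
  refine ⟨⟨h, mem_iff.2 hh⟩, ?_⟩
  apply Subtype.ext
  show h * pX * h⁻¹ = x.1
  rw [hc, mul_inv_cancel_right]

theorem dodecad_mem : Spor.squareDodecad ∈ dodecads := by
  rw [squareDodecad_eq]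
  exact dd_mem

theorem zero_mem : (some 0 : GolayPt) ∈ Spor.squareDodecad := by
  rw [squareDodecad_eq]
  decide +kernel

/-- The two descriptions of `M₁₁`. -/
def equiv : ↥(MulAction.stabilizer M24 Spor.squareDodecad ⊓
    MulAction.stabilizer M24 (some 0 : GolayPt)) ≃* Spor.M11 where
  toFun g := ⟨((g : M24) : Equiv.Perm GolayPt), ⟨(g : M24).2, g.2.1⟩, g.2.2⟩
  invFun g := ⟨⟨(g : Equiv.Perm GolayPt), g.2.1.1⟩, g.2.1.2, g.2.2⟩
  left_inv _ := rfl
  right_inv _ := rfl
  map_mul' _ _ := rfl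

theorem card : Nat.card Spor.M11 = 7920 := by
  rw [← Nat.card_congr equiv.toEquiv]
  exact S0387.result _ dodecad_mem _ zero_mem

instance : Finite Spor.M11 := Nat.finite_of_card_ne_zero (by rw [card]; norm_num)

theorem simple : IsSimpleGroup Spor.M11 :=
  have := S0388.result _ dodecad_mem _ zero_mem
  equiv.isSimpleGroup_congr.1 this

theorem perfect : commutator Spor.M11 = ⊤ := by
  haveI := simple
  refine perfect_of_simple fun h => ?_
  have h1 : d8 3 = d8 4 := h eW eB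
  exact absurd (d8_inj h1) (by decide)

theorem card_sylow (S : Sylow 2 Spor.M11) : Nat.card S = 16 := by
  rw [S.card_eq_multiplicity, card]
  have : (7920 : ℕ) = 2 ^ 4 * 495 := by norm_num
  rw [this, Nat.factorization_mul (by norm_num) (by norm_num), Finsupp.add_apply,
    Nat.Prime.factorization_pow Nat.prime_two, Finsupp.single_eq_same,
    Nat.factorization_eq_zero_of_not_dvd (by norm_num)]
  rfl

/-- if the strongly closed subgroup has index at most two then the family is full -/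
theorem full_of_index_two {G : Type*} [Group G] [Finite G] (hG : commutator G = ⊤) {𝒜 : Set G}
    (h : IsClosedFam 𝒜) (S : Sylow 2 G)
    (hc : Nat.card S ≤ 2 * Nat.card (fam 𝒜 (S : Subgroup G))) : Full 𝒜 := by
  haveI : Fact (Nat.Prime 2) := ⟨Nat.prime_two⟩
  set A := fam 𝒜 (S : Subgroup G) with hA
  have hAS : A ≤ (S : Subgroup G) := fam_le _ _
  have hmem : ∀ x : G, x ∈ A ↔ x ∈ 𝒜 ∧ x ∈ S := fun x => h.mem_fam_iff S.2
  have h1 : Nat.card A * A.relIndex (S : Subgroup G) = Nat.card S := by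
    have h2 := (A.subgroupOf (S : Subgroup G)).card_mul_index
    have h3 : Nat.card (A.subgroupOf (S : Subgroup G)) = Nat.card A :=
      Nat.card_congr (subgroupOfEquivOfLe hAS).toEquiv
    rw [h3] at h2
    exact h2
  have hpos : 0 < Nat.card A := Nat.card_pos
  have h4 : A.relIndex (S : Subgroup G) ≤ 2 := by
    by_contra hcon
    push Not at hcon
    have h5 : Nat.card A * 3 ≤ Nat.card A * A.relIndex (S : Subgroup G) := Nat.mul_le_mul_left _ hcon
    omega
  have h5 : A.relIndex (S : Subgroup G) ≠ 0 := by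
    intro h0
    rw [h0, mul_zero] at h1
    have : 0 < Nat.card S := Nat.card_pos
    omega
  have h6 : A.relIndex (S : Subgroup G) = 1 ∨ A.relIndex (S : Subgroup G) = 2 := by omega
  rcases h6 with h6 | h6
  · have h7 := relIndex_eq_one.1 h6
    exact full_of_sylow h S fun x hx => ((hmem x).1 (h7 hx)).1
  · have h7 : (A.subgroupOf (S : Subgroup G)).index = 2 := h6
    have hSA : ¬ (S : Subgroup G) ≤ A := by
      intro hle
      rw [relIndex_eq_one.2 hle] at h6
      omega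
    obtain ⟨s, hs, hsA⟩ := SetLike.not_le_iff_exists.1 hSA
    refine full_of_cyclic hG h S s hs fun x hx => ?_
    by_cases hxA : x ∈ A
    · exact ⟨0, by rw [zpow_zero, mul_one]; exact ((hmem x).1 hxA).1⟩
    · refine ⟨1, ?_⟩
      rw [zpow_one]
      have h8 : (⟨x, hx⟩ * ⟨s, hs⟩ : (S : Subgroup G)) ∈ A.subgroupOf (S : Subgroup G) :=
        (Subgroup.mul_mem_iff_of_index_two h7).2 (by
          rw [mem_subgroupOf, mem_subgroupOf]
          exact iff_of_false hxA hsA)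
      exact ((hmem _).1 (mem_subgroupOf.1 h8)).1

theorem cr : CR Spor.M11 := by
  haveI : Fact (Nat.Prime 2) := ⟨Nat.prime_two⟩
  intro 𝒜 h
  by_cases hne : Triv 𝒜
  · exact Or.inl hne
  right
  -- all involutions are in the family
  obtain ⟨x₀, hx₀, hx₀1⟩ : ∃ x ∈ 𝒜, x ≠ 1 := by
    by_contra hcon
    push Not at hcon
    exact hne hcon
  obtain ⟨y, hy, hy1, hyy⟩ : ∃ y ∈ 𝒜, y ≠ 1 ∧ y * y = 1 := by
    classical
    have hex : ∃ k, x₀ ^ 2 ^ k = 1 := h.two _ hx₀
    obtain ⟨k, hk, hmin⟩ := Nat.findX hex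
    have hk0 : k ≠ 0 := by
      rintro rfl
      rw [pow_zero, pow_one] at hk
      exact hx₀1 hk
    obtain ⟨j, rfl⟩ : ∃ j, k = j + 1 := ⟨k - 1, by omega⟩
    refine ⟨x₀ ^ 2 ^ j, ?_, fun he => hmin j (by omega) he, ?_⟩
    · have := h.zpow_mem hx₀ ((2 ^ j : ℕ) : ℤ)
      rwa [zpow_natCast] at this
    · rw [← pow_add, ← hk]
      congr 1
      rw [pow_succ]
      omega
  obtain ⟨g, hg⟩ := conj_X y hy1 hyy
  have hX : eX ∈ 𝒜 := by
    rw [← hg] at hy
    exact (h.conj_mem_iff g).1 hy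
  have hall : ∀ x : Spor.M11, x ≠ 1 → x * x = 1 → x ∈ 𝒜 := by
    intro x hx hxx
    obtain ⟨k, rfl⟩ := conj_X x hx hxx
    exact h.conj_mem _ hX k
  have hQ2 : IsPGroup 2 Q := IsPGroup.of_card (n := 3) (by rw [card_Q]; norm_num)
  obtain ⟨S, hS⟩ := hQ2.exists_le_sylow
  have hW : eW ∈ fam 𝒜 (S : Subgroup Spor.M11) := mem_fam (hall _ W_ne W_sq) (hS ⟨1, rfl⟩)
  have hB : eB ∈ fam 𝒜 (S : Subgroup Spor.M11) := mem_fam (hall _ B_ne B_sq) (hS ⟨2, rfl⟩)
  have hQA : Q ≤ fam 𝒜 (S : Subgroup Spor.M11) := by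
    rintro _ ⟨i, rfl⟩
    fin_cases i
    · exact one_mem _
    · exact hW
    · exact hB
    · exact mul_mem hW hB
    · exact mul_mem hB hW
    · exact mul_mem hW (mul_mem hB hW)
    · exact mul_mem hB (mul_mem hW hB)
    · exact mul_mem hW (mul_mem hB (mul_mem hW hB))
  refine full_of_index_two perfect h S ?_
  have h1 := card_le_of_le hQA
  rw [card_Q] at h1
  rw [card_sylow S]
  omega

/-- **S1252, the row `M₁₁`.** -/
theorem closedRow {G : Type*} [Group G] [Finite G] (h : Spor.IsoM11 G) : ClosedTwo.ClosedRow G := by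
  obtain ⟨e⟩ := h
  exact (cr.of_equiv e).closedRow

end Cfsg.Agent.FooteOdd.SporMEleven
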