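import Cfsg.Agent.Foote.Bridge
import Cfsg.Agent.Foote.Sheet
import Cfsg.Agent.CoThreeStd.MTwelveCent
import Cfsg.Agent.S0383
import Cfsg.Agent.SporadicA.M11Comp

/-!
# Strongly closed 2-subgroups of the Mathieu group of degree 12 (helper63)

The Sylow subgroup is `⟨A, B, C, D⟩`; the conjugates of `p * r` in it generate `⟨A, B, C⟩` (index 2).
-/

set_option autoImplicit false
set_option linter.style.haveILetI false

open scoped Pointwise

namespace Cfsg.Agent.FooteOdd.SporMTwelve

open Subgroup Cfsg Cfsg.Agent.TwoFusion.ClosedFam Cfsg.Agent.Foote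
open Cfsg.Agent.CoThreeStd.MTwelve
open Cfsg.Agent.MTwelveType.SylowModel (A B C D hom hom_apply bp card_range_hom)

/-- a conjugating word -/
def isV (l : List ℕ) : Bool := msB.any fun m => eqW l (cj [1, 3] m)

theorem isV_spec {l : List ℕ} (h : isV l = true) : ∃ m, m * (p * r) * m⁻¹ = wd l := by
  obtain ⟨m, -, hm⟩ := List.any_eq_true.mp h
  exact ⟨(wd m)⁻¹, by rw [inv_inv, ← wd_pr, ← wd_cj, wd_eq hm]⟩

set_option maxRecDepth 100000 in
theorem isV_BC : isV (wS 0 1 true false) = true := by decide +kernel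
set_option maxRecDepth 100000 in
theorem isV_AC : isV (wS 1 0 true false) = true := by decide +kernel
set_option maxRecDepth 100000 in
theorem isV_ABC : isV (wS 1 1 true false) = true := by decide +kernel

theorem wd_BC : wd (wS 0 1 true false) = B * C := by
  rw [wS, wd_append, wd_append, wd_append, wd_wpow, wd_wpow, ← eqA, ← eqB]
  simp [wd_nil, eqC]

theorem wd_AC : wd (wS 1 0 true false) = A * C := by
  rw [wS, wd_append, wd_append, wd_append, wd_wpow, wd_wpow, ← eqA, ← eqB]
  simp [wd_nil, eqC]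

theorem wd_ABC : wd (wS 1 1 true false) = A * (B * C) := by
  rw [wS, wd_append, wd_append, wd_append, wd_wpow, wd_wpow, ← eqA, ← eqB]
  simp [wd_nil, eqC]

theorem dodecad_mem : Spor.squareDodecad ∈ dodecads := by
  have h : Spor.squareDodecad = SporadicA.M11Comp.sqD := by
    ext x
    rw [SporadicA.M11Comp.mem_sqD]
    revert x
    decide +kernel
  rw [h]
  exact SporadicA.M11Comp.sqD_mem_dodecads

/-- The two descriptions of `M₁₂`. -/
def equiv : ↥(MulAction.stabilizer M24 Spor.squareDodecad) ≃* Spor.M12 where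
  toFun g := ⟨((g : M24) : Equiv.Perm GolayPt), (g : M24).2, g.2⟩
  invFun g := ⟨⟨(g : Equiv.Perm GolayPt), g.2.1⟩, g.2.2⟩
  left_inv _ := rfl
  right_inv _ := rfl
  map_mul' _ _ := rfl

theorem simple : IsSimpleGroup Spor.M12 :=
  have := S0383.result _ dodecad_mem
  equiv.isSimpleGroup_congr.1 this

theorem perfect : commutator Spor.M12 = ⊤ := by
  haveI := simple
  refine perfect_of_simple fun h => ?_
  have h1 : centralizer ({y} : Set H) = ⊤ := by
    rw [eq_top_iff]
    intro x _
    exact mem_centralizer_singleton_iff.2 (h x y)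
  have h2 := card_cent_y
  rw [h1, card_top, card_H] at h2
  omega

theorem mem_v {𝒜 : Set H} (h : IsClosedFam 𝒜) (hne : ¬ Triv 𝒜) : p * r ∈ 𝒜 := by
  haveI : Fact (Nat.Prime 2) := ⟨Nat.prime_two⟩
  obtain ⟨P, -⟩ := exists_sylow
  obtain ⟨y₀, hy, hy1, hyy, hyS, hyc⟩ := exists_central h hne P
  rcases inv_class y₀ hy1 hyy with ⟨m, hm⟩ | ⟨m, hm⟩
  · exfalso
    have h1 : (P : Subgroup H) ≤ centralizer ({y₀} : Set H) := by
      intro x hx
      exact mem_centralizer_singleton_iff.2 (hyc x hx)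
    have h2 : Nat.card (centralizer ({y₀} : Set H)) = 240 := by
      rw [← card_cent_y]
      have h3 : (centralizer ({y} : Set H)).map (MulAut.conj m⁻¹).toMonoidHom = centralizer ({y₀} : Set H) := by
        ext x
        rw [mem_map, mem_centralizer_singleton_iff]
        constructor
        · rintro ⟨z, hz, rfl⟩
          rw [mem_centralizer_singleton_iff] at hz
          rw [← hm]
          show m⁻¹ * z * m⁻¹⁻¹ * (m⁻¹ * y * m) = m⁻¹ * y * m * (m⁻¹ * z * m⁻¹⁻¹)
          calc m⁻¹ * z * m⁻¹⁻¹ * (m⁻¹ * y * m) = m⁻¹ * (z * y) * m := by group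
            _ = m⁻¹ * (y * z) * m := by rw [hz]
            _ = _ := by group
        · intro hx
          refine ⟨m * x * m⁻¹, ?_, ?_⟩
          · rw [mem_centralizer_singleton_iff]
            rw [← hm] at hx
            calc m * x * m⁻¹ * y = m * (x * (m⁻¹ * y * m)) * m⁻¹ := by group
              _ = m * (m⁻¹ * y * m * x) * m⁻¹ := by rw [hx]
              _ = _ := by group
          · show m⁻¹ * (m * x * m⁻¹) * m⁻¹⁻¹ = x
            group
      rw [← h3]
      exact card_map_of_injective (MulAut.conj m⁻¹).injective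
    have h3 := card_dvd_of_le h1
    rw [h2, Cfsg.Agent.MTwelveType.SylowModel.card_sylow P] at h3
    omega
  · have h1 : m⁻¹ * (p * r) * m⁻¹⁻¹ ∈ 𝒜 := by rw [inv_inv, hm]; exact hy
    exact (h.conj_mem_iff m⁻¹).1 h1

theorem cr : CR H := by
  haveI : Fact (Nat.Prime 2) := ⟨Nat.prime_two⟩
  intro 𝒜 h
  by_cases hne : Triv 𝒜
  · exact Or.inl hne
  right
  have hv := mem_v h hne
  obtain ⟨P, hP⟩ := exists_sylow
  have hmem : ∀ x : H, x ∈ fam 𝒜 (P : Subgroup H) ↔ x ∈ 𝒜 ∧ x ∈ P := fun x => h.mem_fam_iff P.2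
  have hin : ∀ x, hom x ∈ (P : Subgroup H) := fun x => by rw [← hP]; exact ⟨x, rfl⟩
  have hget : ∀ l : List ℕ, isV l = true → wd l ∈ (P : Subgroup H) → wd l ∈ fam 𝒜 (P : Subgroup H) := by
    intro l hl hlP
    obtain ⟨m, hm⟩ := isV_spec hl
    refine (hmem _).2 ⟨?_, hlP⟩
    rw [← hm]
    exact h.conj_mem _ hv m
  have hA : A ∈ (P : Subgroup H) := by
    have := hin ⟨1, 0, false, false⟩
    rw [hom_apply] at this
    have e1 : (1 : ZMod (2 * 2)).val = 1 := rfl
    have e0 : (0 : ZMod (2 * 2)).val = 0 := rfl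
    simpa only [bp, e1, e0, pow_one, pow_zero, one_mul, mul_one] using this
  have hB : B ∈ (P : Subgroup H) := by
    have := hin ⟨0, 1, false, false⟩
    rw [hom_apply] at this
    have e1 : (1 : ZMod (2 * 2)).val = 1 := rfl
    have e0 : (0 : ZMod (2 * 2)).val = 0 := rfl
    simpa only [bp, e1, e0, pow_one, pow_zero, one_mul, mul_one] using this
  have hC : C ∈ (P : Subgroup H) := by
    have := hin ⟨0, 0, true, false⟩
    rw [hom_apply] at this
    simpa [bp] using this
  have hD : D ∈ (P : Subgroup H) := by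
    have := hin ⟨0, 0, false, true⟩
    rw [hom_apply] at this
    simpa [bp] using this
  have h1 : B * C ∈ fam 𝒜 (P : Subgroup H) := by
    rw [← wd_BC]
    exact hget _ isV_BC (by rw [wd_BC]; exact mul_mem hB hC)
  have h2 : A * C ∈ fam 𝒜 (P : Subgroup H) := by
    rw [← wd_AC]
    exact hget _ isV_AC (by rw [wd_AC]; exact mul_mem hA hC)
  have h3 : A * (B * C) ∈ fam 𝒜 (P : Subgroup H) := by
    rw [← wd_ABC]
    exact hget _ isV_ABC (by rw [wd_ABC]; exact mul_mem hA (mul_mem hB hC))
  have kA : A ∈ fam 𝒜 (P : Subgroup H) := by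
    have := mul_mem h3 (inv_mem h1)
    rwa [mul_inv_cancel_right] at this
  have kC : C ∈ fam 𝒜 (P : Subgroup H) := by
    have := mul_mem (inv_mem kA) h2
    rwa [inv_mul_cancel_left] at this
  have kB : B ∈ fam 𝒜 (P : Subgroup H) := by
    have := mul_mem h1 (inv_mem kC)
    rwa [mul_inv_cancel_right] at this
  refine full_of_cyclic perfect h P D hD fun x hx => ?_
  obtain ⟨z, rfl⟩ : x ∈ hom.range := by
    rw [hP]
    exact hx
  have hz : hom z = A ^ z.i.val * B ^ z.j.val * (bp C z.e * bp D z.d) := hom_apply z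
  have hDD : D * D = 1 := Cfsg.Agent.MTwelveType.SylowModel.relD
  have kz : A ^ z.i.val * B ^ z.j.val * bp C z.e ∈ fam 𝒜 (P : Subgroup H) := by
    refine mul_mem (mul_mem (pow_mem kA _) (pow_mem kB _)) ?_
    cases z.e
    · exact one_mem _
    · exact kC
  cases hd : z.d
  · refine ⟨0, ?_⟩
    rw [hz, hd, zpow_zero, mul_one]
    have : bp D false = 1 := rfl
    rw [this, mul_one]
    exact ((hmem _).1 kz).1
  · refine ⟨1, ?_⟩
    rw [hz, hd, zpow_one]
    have : bp D true = D := rfl
    rw [this, ← mul_assoc, mul_assoc, hDD, mul_one]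
    exact ((hmem _).1 kz).1

/-- **S1252, the row `M₁₂`.** -/
theorem closedRow {G : Type*} [Group G] [Finite G] (h : Spor.IsoM12 G) : ClosedTwo.ClosedRow G := by
  obtain ⟨e⟩ := h
  exact (cr.of_equiv e).closedRow

end Cfsg.Agent.FooteOdd.SporMTwelve
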